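import Mathlib.CategoryTheory.Monoidal.Braided.Basic
import Mathlib.CategoryTheory.Monoidal.NaturalTransformation
import Mathlib.CategoryTheory.Groupoid
import Mathlib.CategoryTheory.Equivalence
import Mathlib.CategoryTheory.Whiskering

/-! The Picard category freely generated by a symmetric monoidal category: formal objects with
formal inverses, formal morphisms modulo the axioms. -/

set_option autoImplicit false

universe v u

open CategoryTheory MonoidalCategory

namespace Groth.PicFree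

/-- formal objects -/
inductive Obj (A : Type u) : Type u
  | of : A → Obj A
  | unit : Obj A
  | tensor : Obj A → Obj A → Obj A
  | inv : Obj A → Obj A

variable {A : Type u} [Category.{v} A] [MonoidalCategory A] [SymmetricCategory A]

/-- formal morphisms -/
inductive Hom : Obj A → Obj A → Type (max u v)
  | id (X : Obj A) : Hom X X
  | comp {X Y Z : Obj A} (f : Hom X Y) (g : Hom Y Z) : Hom X Z
  | symm {X Y : Obj A} (f : Hom X Y) : Hom Y X
  | whiskerLeft (X : Obj A) {Y Z : Obj A} (f : Hom Y Z) : Hom (X.tensor Y) (X.tensor Z)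
  | whiskerRight {X Y : Obj A} (f : Hom X Y) (Z : Obj A) : Hom (X.tensor Z) (Y.tensor Z)
  | tensor {X₁ Y₁ X₂ Y₂ : Obj A} (f : Hom X₁ Y₁) (g : Hom X₂ Y₂) : Hom (X₁.tensor X₂) (Y₁.tensor Y₂)
  | assoc (X Y Z : Obj A) : Hom ((X.tensor Y).tensor Z) (X.tensor (Y.tensor Z))
  | lunit (X : Obj A) : Hom (Obj.unit.tensor X) X
  | runit (X : Obj A) : Hom (X.tensor Obj.unit) X
  | braid (X Y : Obj A) : Hom (X.tensor Y) (Y.tensor X)
  | ev (X : Obj A) : Hom (X.tensor X.inv) Obj.unit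
  | ofMap {a b : A} (f : a ⟶ b) : Hom (Obj.of a) (Obj.of b)
  | ofμ (a b : A) : Hom ((Obj.of a).tensor (Obj.of b)) (Obj.of (a ⊗ b))
  | ofε : Hom Obj.unit (Obj.of (𝟙_ A))

/-- the axioms of a Picard category receiving a symmetric lax monoidal functor from `A` -/
inductive Rel : ∀ {X Y : Obj A}, Hom X Y → Hom X Y → Prop
  | refl {X Y} (f : Hom X Y) : Rel f f
  | symm {X Y} {f g : Hom X Y} : Rel f g → Rel g f
  | trans {X Y} {f g h : Hom X Y} : Rel f g → Rel g h → Rel f h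
  | comp {X Y Z} {f f' : Hom X Y} {g g' : Hom Y Z} : Rel f f' → Rel g g' → Rel (f.comp g) (f'.comp g')
  | whiskerLeft (X) {Y Z} {f f' : Hom Y Z} : Rel f f' → Rel (f.whiskerLeft X) (f'.whiskerLeft X)
  | whiskerRight {X Y} {f f' : Hom X Y} (Z) : Rel f f' → Rel (f.whiskerRight Z) (f'.whiskerRight Z)
  | tensor {X₁ Y₁ X₂ Y₂} {f f' : Hom X₁ Y₁} {g g' : Hom X₂ Y₂} :
      Rel f f' → Rel g g' → Rel (f.tensor g) (f'.tensor g')
  | id_comp {X Y} (f : Hom X Y) : Rel ((Hom.id X).comp f) f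
  | comp_id {X Y} (f : Hom X Y) : Rel (f.comp (Hom.id Y)) f
  | comp_assoc {W X Y Z} (f : Hom W X) (g : Hom X Y) (h : Hom Y Z) : Rel ((f.comp g).comp h) (f.comp (g.comp h))
  | comp_symm {X Y} (f : Hom X Y) : Rel (f.comp f.symm) (Hom.id X)
  | symm_comp {X Y} (f : Hom X Y) : Rel (f.symm.comp f) (Hom.id Y)
  | tensorHom_def {X₁ Y₁ X₂ Y₂} (f : Hom X₁ Y₁) (g : Hom X₂ Y₂) :
      Rel (f.tensor g) ((f.whiskerRight X₂).comp (g.whiskerLeft Y₁))
  | id_tensor_id (X Y) : Rel ((Hom.id X).tensor (Hom.id Y)) (Hom.id _)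
  | tensor_comp {X₁ Y₁ Z₁ X₂ Y₂ Z₂} (f₁ : Hom X₁ Y₁) (f₂ : Hom X₂ Y₂) (g₁ : Hom Y₁ Z₁) (g₂ : Hom Y₂ Z₂) :
      Rel ((f₁.tensor f₂).comp (g₁.tensor g₂)) ((f₁.comp g₁).tensor (f₂.comp g₂))
  | whiskerLeft_id (X Y) : Rel ((Hom.id Y).whiskerLeft X) (Hom.id _)
  | id_whiskerRight (X Y) : Rel ((Hom.id X).whiskerRight Y) (Hom.id _)
  | assoc_natural {X₁ X₂ X₃ Y₁ Y₂ Y₃} (f₁ : Hom X₁ Y₁) (f₂ : Hom X₂ Y₂) (f₃ : Hom X₃ Y₃) :
      Rel (((f₁.tensor f₂).tensor f₃).comp (Hom.assoc Y₁ Y₂ Y₃))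
        ((Hom.assoc X₁ X₂ X₃).comp (f₁.tensor (f₂.tensor f₃)))
  | lunit_natural {X Y} (f : Hom X Y) :
      Rel ((f.whiskerLeft Obj.unit).comp (Hom.lunit Y)) ((Hom.lunit X).comp f)
  | runit_natural {X Y} (f : Hom X Y) :
      Rel ((f.whiskerRight Obj.unit).comp (Hom.runit Y)) ((Hom.runit X).comp f)
  | pentagon (W X Y Z) :
      Rel (((Hom.assoc W X Y).whiskerRight Z).comp
          ((Hom.assoc W (X.tensor Y) Z).comp ((Hom.assoc X Y Z).whiskerLeft W)))
        ((Hom.assoc (W.tensor X) Y Z).comp (Hom.assoc W X (Y.tensor Z)))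
  | triangle (X Y) :
      Rel ((Hom.assoc X Obj.unit Y).comp ((Hom.lunit Y).whiskerLeft X)) ((Hom.runit X).whiskerRight Y)
  | braid_natural_right (X) {Y Z} (f : Hom Y Z) :
      Rel ((f.whiskerLeft X).comp (Hom.braid X Z)) ((Hom.braid X Y).comp (f.whiskerRight X))
  | braid_natural_left {X Y} (f : Hom X Y) (Z) :
      Rel ((f.whiskerRight Z).comp (Hom.braid Y Z)) ((Hom.braid X Z).comp (f.whiskerLeft Z))
  | hexagon_forward (X Y Z) :
      Rel ((Hom.assoc X Y Z).comp ((Hom.braid X (Y.tensor Z)).comp (Hom.assoc Y Z X)))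
        (((Hom.braid X Y).whiskerRight Z).comp ((Hom.assoc Y X Z).comp ((Hom.braid X Z).whiskerLeft Y)))
  | hexagon_reverse (X Y Z) :
      Rel ((Hom.assoc X Y Z).symm.comp ((Hom.braid (X.tensor Y) Z).comp (Hom.assoc Z X Y).symm))
        (((Hom.braid Y Z).whiskerLeft X).comp ((Hom.assoc X Z Y).symm.comp ((Hom.braid X Z).whiskerRight Y)))
  | symmetry (X Y) : Rel ((Hom.braid X Y).comp (Hom.braid Y X)) (Hom.id _)
  | ofMap_id (a : A) : Rel (Hom.ofMap (𝟙 a)) (Hom.id _)
  | ofMap_comp {a b c : A} (f : a ⟶ b) (g : b ⟶ c) : Rel (Hom.ofMap (f ≫ g)) ((Hom.ofMap f).comp (Hom.ofMap g))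
  | ofμ_natural_left {a b : A} (f : a ⟶ b) (c : A) :
      Rel (((Hom.ofMap f).whiskerRight (Obj.of c)).comp (Hom.ofμ b c))
        ((Hom.ofμ a c).comp (Hom.ofMap (f ▷ c)))
  | ofμ_natural_right (c : A) {a b : A} (f : a ⟶ b) :
      Rel (((Hom.ofMap f).whiskerLeft (Obj.of c)).comp (Hom.ofμ c b))
        ((Hom.ofμ c a).comp (Hom.ofMap (c ◁ f)))
  | ofμ_assoc (a b c : A) :
      Rel (((Hom.ofμ a b).whiskerRight (Obj.of c)).comp ((Hom.ofμ (a ⊗ b) c).comp (Hom.ofMap (α_ a b c).hom)))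
        ((Hom.assoc _ _ _).comp (((Hom.ofμ b c).whiskerLeft (Obj.of a)).comp (Hom.ofμ a (b ⊗ c))))
  | ofε_left (a : A) :
      Rel (Hom.lunit (Obj.of a))
        ((Hom.ofε.whiskerRight (Obj.of a)).comp ((Hom.ofμ (𝟙_ A) a).comp (Hom.ofMap (λ_ a).hom)))
  | ofε_right (a : A) :
      Rel (Hom.runit (Obj.of a))
        ((Hom.ofε.whiskerLeft (Obj.of a)).comp ((Hom.ofμ a (𝟙_ A)).comp (Hom.ofMap (ρ_ a).hom)))
  | ofμ_braid (a b : A) :
      Rel ((Hom.ofμ a b).comp (Hom.ofMap (β_ a b).hom)) ((Hom.braid _ _).comp (Hom.ofμ b a))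

instance setoid (X Y : Obj A) : Setoid (Hom X Y) := ⟨Rel, ⟨Rel.refl, Rel.symm, Rel.trans⟩⟩

instance category : Category.{max u v} (Obj A) where
  Hom X Y := Quotient (setoid X Y)
  id X := ⟦Hom.id X⟧
  comp := Quotient.map₂ Hom.comp (fun _ _ hf _ _ hg => Rel.comp hf hg)
  id_comp := by rintro X Y ⟨f⟩; exact Quotient.sound (Rel.id_comp f)
  comp_id := by rintro X Y ⟨f⟩; exact Quotient.sound (Rel.comp_id f)
  assoc := by rintro W X Y Z ⟨f⟩ ⟨g⟩ ⟨h⟩; exact Quotient.sound (Rel.comp_assoc f g h)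

/-- the class of a formal morphism -/
abbrev mk {X Y : Obj A} (f : Hom X Y) : X ⟶ Y := ⟦f⟧

/-- the class of a formal morphism, as an isomorphism -/
def mkIso {X Y : Obj A} (f : Hom X Y) : X ≅ Y :=
  ⟨mk f, mk f.symm, Quotient.sound (Rel.comp_symm f), Quotient.sound (Rel.symm_comp f)⟩

instance isGroupoid : IsGroupoid (Obj A) :=
  ⟨fun {X Y} t => Quotient.inductionOn t fun f => inferInstanceAs (IsIso (mkIso f).hom)⟩

instance monoidal : MonoidalCategory (Obj A) where
  tensorObj X Y := Obj.tensor X Y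
  whiskerLeft X _ _ f := Quotient.map (fun f => Hom.whiskerLeft X f) (fun _ _ h => Rel.whiskerLeft X h) f
  whiskerRight f Z := Quotient.map (fun f => Hom.whiskerRight f Z) (fun _ _ h => Rel.whiskerRight Z h) f
  tensorHom := Quotient.map₂ Hom.tensor (fun _ _ hf _ _ hg => Rel.tensor hf hg)
  tensorUnit := Obj.unit
  associator X Y Z := mkIso (Hom.assoc X Y Z)
  leftUnitor X := mkIso (Hom.lunit X)
  rightUnitor X := mkIso (Hom.runit X)
  tensorHom_def {W X Y Z} := by rintro ⟨f⟩ ⟨g⟩; exact Quotient.sound (Rel.tensorHom_def _ _)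
  id_tensorHom_id X Y := Quotient.sound (Rel.id_tensor_id X Y)
  tensorHom_comp_tensorHom {X₁ Y₁ Z₁ X₂ Y₂ Z₂} := by
    rintro ⟨f₁⟩ ⟨f₂⟩ ⟨g₁⟩ ⟨g₂⟩; exact Quotient.sound (Rel.tensor_comp _ _ _ _)
  whiskerLeft_id X Y := Quotient.sound (Rel.whiskerLeft_id X Y)
  id_whiskerRight X Y := Quotient.sound (Rel.id_whiskerRight X Y)
  associator_naturality {X₁ X₂ X₃ Y₁ Y₂ Y₃} := by
    rintro ⟨f₁⟩ ⟨f₂⟩ ⟨f₃⟩; exact Quotient.sound (Rel.assoc_natural _ _ _)
  leftUnitor_naturality {X Y} := by rintro ⟨f⟩; exact Quotient.sound (Rel.lunit_natural _)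
  rightUnitor_naturality {X Y} := by rintro ⟨f⟩; exact Quotient.sound (Rel.runit_natural _)
  pentagon W X Y Z := Quotient.sound (Rel.pentagon W X Y Z)
  triangle X Y := Quotient.sound (Rel.triangle X Y)

instance symmetric : SymmetricCategory (Obj A) where
  braiding X Y := mkIso (Hom.braid X Y)
  braiding_naturality_right X {Y Z} := by rintro ⟨f⟩; exact Quotient.sound (Rel.braid_natural_right X f)
  braiding_naturality_left {X Y} f Z := by
    induction f using Quotient.inductionOn with | h f => exact Quotient.sound (Rel.braid_natural_left f Z)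
  hexagon_forward X Y Z := Quotient.sound (Rel.hexagon_forward X Y Z)
  hexagon_reverse X Y Z := Quotient.sound (Rel.hexagon_reverse X Y Z)
  symmetry X Y := Quotient.sound (Rel.symmetry X Y)

variable (A) in
/-- the unit functor -/
def ι : A ⥤ Obj A where
  obj := Obj.of
  map f := mk (Hom.ofMap f)
  map_id a := Quotient.sound (Rel.ofMap_id a)
  map_comp f g := Quotient.sound (Rel.ofMap_comp f g)

instance laxBraidedι : (ι A).LaxBraided where
  ε := mk Hom.ofε
  μ a b := mk (Hom.ofμ a b)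
  μ_natural_left f c := Quotient.sound (Rel.ofμ_natural_left f c)
  μ_natural_right c f := Quotient.sound (Rel.ofμ_natural_right c f)
  associativity a b c := Quotient.sound (Rel.ofμ_assoc a b c)
  left_unitality a := Quotient.sound (Rel.ofε_left a)
  right_unitality a := Quotient.sound (Rel.ofε_right a)
  braided a b := Quotient.sound (Rel.ofμ_braid a b)

/-- in a symmetric monoidal category tensoring with an invertible object is an equivalence -/
theorem isEquivalence_tensor {C : Type*} [Category C] [MonoidalCategory C] [SymmetricCategory C] (X Y : C)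
    (e : X ⊗ Y ≅ 𝟙_ C) : (tensorLeft X).IsEquivalence ∧ (tensorRight X).IsEquivalence := by
  have h : (tensorLeft X).IsEquivalence :=
    (CategoryTheory.Equivalence.mk (tensorLeft X) (tensorLeft Y)
      (NatIso.ofComponents (fun Z => (λ_ Z).symm ≪≫ whiskerRightIso ((e.symm ≪≫ β_ X Y)) Z ≪≫ α_ Y X Z)
        (fun {Z Z'} f => by
          dsimp [whiskerRightIso]
          simp only [Category.assoc]
          rw [← associator_naturality_right, leftUnitor_inv_naturality_assoc, whisker_exchange_assoc]))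
      (NatIso.ofComponents (fun Z => (α_ X Y Z).symm ≪≫ whiskerRightIso e Z ≪≫ λ_ Z)
        (fun {Z Z'} f => by
          dsimp [whiskerRightIso]
          simp only [Category.assoc]
          rw [associator_inv_naturality_right_assoc, whisker_exchange_assoc, leftUnitor_naturality]))).isEquivalence_functor
  haveI := h
  exact ⟨h, Functor.isEquivalence_of_iso (BraidedCategory.tensorLeftIsoTensorRight X)⟩

theorem picard (X : Obj A) : (tensorLeft X).IsEquivalence ∧ (tensorRight X).IsEquivalence :=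
  isEquivalence_tensor X X.inv (mkIso (Hom.ev X))

end Groth.PicFree
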