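import Groth.Agent.PicFree.Defs

/-! The functor out of the free Picard category. -/

set_option autoImplicit false

universe v' u' v u

open CategoryTheory MonoidalCategory Functor.LaxMonoidal

namespace Groth.PicFree

variable {A : Type u} [Category.{v} A] [MonoidalCategory A] [SymmetricCategory A]
variable {P : Type u'} [Category.{v'} P] [MonoidalCategory P] [SymmetricCategory P] [IsGroupoid P]
variable (hP : ∀ X : P, (tensorLeft X).IsEquivalence) (Φ : A ⥤ P) [Φ.LaxBraided]

/-- a chosen inverse object -/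
noncomputable def inverse (X : P) : P := haveI := hP X; (tensorLeft X).objPreimage (𝟙_ P)

/-- the chosen evaluation -/
noncomputable def inverseEv (X : P) : X ⊗ inverse hP X ≅ 𝟙_ P :=
  haveI := hP X; (tensorLeft X).objObjPreimageIso (𝟙_ P)

/-- interpretation of objects -/
noncomputable def objD : Obj A → P
  | .of a => Φ.obj a
  | .unit => 𝟙_ P
  | .tensor X Y => objD X ⊗ objD Y
  | .inv X => inverse hP (objD X)

/-- interpretation of morphisms -/
noncomputable def mapD : ∀ {X Y : Obj A}, Hom X Y → (objD hP Φ X ⟶ objD hP Φ Y)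
  | _, _, .id _ => 𝟙 _
  | _, _, .comp f g => mapD f ≫ mapD g
  | _, _, .symm f => inv (mapD f)
  | _, _, .whiskerLeft X f => objD hP Φ X ◁ mapD f
  | _, _, .whiskerRight f Z => mapD f ▷ objD hP Φ Z
  | _, _, .tensor f g => mapD f ⊗ₘ mapD g
  | _, _, .assoc _ _ _ => (α_ _ _ _).hom
  | _, _, .lunit _ => (λ_ _).hom
  | _, _, .runit _ => (ρ_ _).hom
  | _, _, .braid _ _ => (β_ _ _).hom
  | _, _, .ev X => (inverseEv hP (objD hP Φ X)).hom
  | _, _, .ofMap f => Φ.map f
  | _, _, .ofμ a b => μ Φ a b
  | _, _, .ofε => ε Φ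

theorem mapD_rel {X Y : Obj A} {f g : Hom X Y} (h : Rel f g) : mapD hP Φ f = mapD hP Φ g := by
  induction h with
  | refl => rfl
  | symm _ ih => exact ih.symm
  | trans _ _ ih₁ ih₂ => exact ih₁.trans ih₂
  | comp _ _ ih₁ ih₂ => simp only [mapD]; rw [ih₁, ih₂]
  | whiskerLeft _ _ ih => simp only [mapD, objD]; rw [ih]
  | whiskerRight _ _ ih => simp only [mapD, objD]; rw [ih]
  | tensor _ _ ih₁ ih₂ => simp only [mapD]; rw [ih₁, ih₂]
  | id_comp => simp only [mapD]; rw [Category.id_comp]
  | comp_id => simp only [mapD]; rw [Category.comp_id]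
  | comp_assoc => simp only [mapD]; rw [Category.assoc]
  | comp_symm => simp only [mapD]; rw [IsIso.hom_inv_id]
  | symm_comp => simp only [mapD]; rw [IsIso.inv_hom_id]
  | tensorHom_def => simp only [mapD, objD]; rw [MonoidalCategory.tensorHom_def]
  | id_tensor_id => simp only [mapD, objD]; rw [MonoidalCategory.id_tensorHom_id]
  | tensor_comp => simp only [mapD]; exact MonoidalCategory.tensorHom_comp_tensorHom _ _ _ _
  | whiskerLeft_id => simp only [mapD, objD]; rw [MonoidalCategory.whiskerLeft_id]
  | id_whiskerRight => simp only [mapD, objD]; rw [MonoidalCategory.id_whiskerRight]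
  | assoc_natural => simp only [mapD, objD]; rw [MonoidalCategory.associator_naturality]
  | lunit_natural => simp only [mapD, objD]; rw [MonoidalCategory.leftUnitor_naturality]
  | runit_natural => simp only [mapD, objD]; rw [MonoidalCategory.rightUnitor_naturality]
  | pentagon => simp only [mapD, objD]; rw [MonoidalCategory.pentagon]
  | triangle => simp only [mapD, objD]; rw [MonoidalCategory.triangle]
  | braid_natural_right => simp only [mapD, objD]; rw [BraidedCategory.braiding_naturality_right]
  | braid_natural_left => simp only [mapD, objD]; rw [BraidedCategory.braiding_naturality_left]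
  | hexagon_forward => simp only [mapD, objD]; rw [BraidedCategory.hexagon_forward]
  | hexagon_reverse =>
      simp only [mapD, objD, IsIso.Iso.inv_hom]; rw [BraidedCategory.hexagon_reverse]
  | symmetry => simp only [mapD, objD]; rw [SymmetricCategory.symmetry]
  | ofMap_id => simp only [mapD, objD]; rw [Φ.map_id]
  | ofMap_comp f g => simp only [mapD]; exact Φ.map_comp f g
  | ofμ_natural_left f c => simp only [mapD, objD]; exact μ_natural_left Φ f c
  | ofμ_natural_right c f => simp only [mapD, objD]; exact μ_natural_right Φ c f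
  | ofμ_assoc a b c => simp only [mapD, objD]; exact associativity Φ a b c
  | ofε_left a => simp only [mapD, objD]; exact left_unitality Φ a
  | ofε_right a => simp only [mapD, objD]; exact right_unitality Φ a
  | ofμ_braid a b => simp only [mapD, objD]; exact Functor.LaxBraided.braided a b

/-- the functor -/
noncomputable def desc : Obj A ⥤ P where
  obj := objD hP Φ
  map {X Y} := Quotient.lift (mapD hP Φ) (fun _ _ h => mapD_rel hP Φ h)
  map_id _ := rfl
  map_comp := by rintro X Y Z ⟨f⟩ ⟨g⟩; rfl

noncomputable instance : (desc hP Φ).LaxBraided where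
  ε := 𝟙 _
  μ _ _ := 𝟙 _
  μ_natural_left {X Y} f Z := by
    induction f using Quotient.inductionOn with | h f => exact (Category.comp_id _).trans (Category.id_comp _).symm
  μ_natural_right {X Y} Z f := by
    induction f using Quotient.inductionOn with | h f => exact (Category.comp_id _).trans (Category.id_comp _).symm
  associativity X Y Z := by
    show 𝟙 _ ▷ _ ≫ 𝟙 _ ≫ (α_ _ _ _).hom = (α_ _ _ _).hom ≫ _ ◁ 𝟙 _ ≫ 𝟙 _
    simp [MonoidalCategory.id_whiskerRight, MonoidalCategory.whiskerLeft_id]
  left_unitality X := by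
    show (λ_ _).hom = 𝟙 _ ▷ _ ≫ 𝟙 _ ≫ (λ_ _).hom
    simp
  right_unitality X := by
    show (ρ_ _).hom = _ ◁ 𝟙 _ ≫ 𝟙 _ ≫ (ρ_ _).hom
    simp
  braided X Y := (Category.id_comp _).trans (Category.comp_id _).symm

/-- the comparison -/
noncomputable def descIso : ι A ⋙ desc hP Φ ≅ Φ :=
  NatIso.ofComponents (fun a => Iso.refl _) (fun f => by
    show Φ.map f ≫ 𝟙 _ = 𝟙 _ ≫ Φ.map f
    simp)

theorem isMonoidal_descIso : NatTrans.IsMonoidal (descIso hP Φ).hom where
  unit := by
    show (𝟙 _ ≫ ε Φ) ≫ 𝟙 _ = ε Φ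
    simp
  tensor a b := by
    show (𝟙 _ ≫ μ Φ a b) ≫ 𝟙 _ = (𝟙 _ ⊗ₘ 𝟙 _) ≫ μ Φ a b
    simp

end Groth.PicFree
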