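import Groth.Agent.PicFree.Defs

/-! Monoidal transformations out of the free Picard category. -/

set_option autoImplicit false

universe v' u' v u

open CategoryTheory MonoidalCategory Functor.LaxMonoidal

namespace Groth.PicFree

variable {A : Type u} [Category.{v} A] [MonoidalCategory A] [SymmetricCategory A]
variable {P : Type u'} [Category.{v'} P] [MonoidalCategory P] [SymmetricCategory P] [IsGroupoid P]
variable (hP : ∀ X : P, (tensorLeft X).IsEquivalence)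
variable (Ψ Ψ' : Obj A ⥤ P) [Ψ.LaxBraided] [Ψ'.LaxBraided] (τ : ι A ⋙ Ψ ⟶ ι A ⋙ Ψ')

/-- the value of the extension at a formal inverse -/
noncomputable def thetaInv (X : Obj A) (a : Ψ.obj X ⟶ Ψ'.obj X) : Ψ.obj X.inv ⟶ Ψ'.obj X.inv :=
  haveI := hP (Ψ'.obj X)
  (tensorLeft (Ψ'.obj X)).preimage (inv (a ▷ Ψ.obj X.inv) ≫ μ Ψ X X.inv ≫ Ψ.map (mkIso (Hom.ev X)).hom ≫
    inv (ε Ψ) ≫ ε Ψ' ≫ inv (Ψ'.map (mkIso (Hom.ev X)).hom) ≫ inv (μ Ψ' X X.inv))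

/-- the extension -/
noncomputable def theta : ∀ X : Obj A, Ψ.obj X ⟶ Ψ'.obj X
  | .of a => τ.app a
  | .unit => inv (C := P) (Y := Ψ.obj (𝟙_ (Obj A))) (ε Ψ) ≫ ε Ψ'
  | .tensor X Y => inv (C := P) (Y := Ψ.obj (X ⊗ Y)) (μ Ψ X Y) ≫ (theta X ⊗ₘ theta Y) ≫ μ Ψ' X Y
  | .inv X => thetaInv hP Ψ Ψ' X (theta X)

theorem theta_unit : ε Ψ ≫ theta hP Ψ Ψ' τ (𝟙_ (Obj A)) = ε Ψ' := by
  show ε Ψ ≫ inv (ε Ψ) ≫ ε Ψ' = _
  rw [IsIso.hom_inv_id_assoc]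

theorem theta_tensor (X Y : Obj A) :
    μ Ψ X Y ≫ theta hP Ψ Ψ' τ (X ⊗ Y) = (theta hP Ψ Ψ' τ X ⊗ₘ theta hP Ψ Ψ' τ Y) ≫ μ Ψ' X Y := by
  show μ Ψ X Y ≫ inv (μ Ψ X Y) ≫ _ = _
  rw [IsIso.hom_inv_id_assoc]

theorem theta_ev (X : Obj A) :
    Ψ.map (mkIso (Hom.ev X)).hom ≫ theta hP Ψ Ψ' τ (𝟙_ (Obj A)) =
      theta hP Ψ Ψ' τ (X ⊗ X.inv) ≫ Ψ'.map (mkIso (Hom.ev X)).hom := by
  haveI := hP (Ψ'.obj X)
  have hw : Ψ'.obj X ◁ theta hP Ψ Ψ' τ X.inv = _ := Functor.map_preimage (tensorLeft (Ψ'.obj X))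
    (inv (theta hP Ψ Ψ' τ X ▷ Ψ.obj X.inv) ≫ μ Ψ X X.inv ≫ Ψ.map (mkIso (Hom.ev X)).hom ≫
    inv (ε Ψ) ≫ ε Ψ' ≫ inv (Ψ'.map (mkIso (Hom.ev X)).hom) ≫ inv (μ Ψ' X X.inv))
  rw [← cancel_epi (μ Ψ X X.inv)]
  conv_rhs => rw [← Category.assoc, theta_tensor, MonoidalCategory.tensorHom_def, hw]
  simp only [Category.assoc, IsIso.hom_inv_id_assoc, IsIso.inv_hom_id_assoc, IsIso.inv_hom_id, Category.comp_id]
  show _ ≫ _ ≫ inv (ε Ψ) ≫ ε Ψ' = _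
  rfl

theorem theta_natural_tensor {X₁ Y₁ X₂ Y₂ : Obj A} (f : X₁ ⟶ Y₁) (g : X₂ ⟶ Y₂)
    (hf : Ψ.map f ≫ theta hP Ψ Ψ' τ Y₁ = theta hP Ψ Ψ' τ X₁ ≫ Ψ'.map f)
    (hg : Ψ.map g ≫ theta hP Ψ Ψ' τ Y₂ = theta hP Ψ Ψ' τ X₂ ≫ Ψ'.map g) :
    Ψ.map (f ⊗ₘ g) ≫ theta hP Ψ Ψ' τ (Y₁ ⊗ Y₂) = theta hP Ψ Ψ' τ (X₁ ⊗ X₂) ≫ Ψ'.map (f ⊗ₘ g) := by
  rw [← cancel_epi (μ Ψ X₁ X₂), ← μ_natural_assoc, theta_tensor, tensorHom_comp_tensorHom_assoc, hf, hg,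
    reassoc_of% theta_tensor hP Ψ Ψ' τ X₁ X₂, ← μ_natural, tensorHom_comp_tensorHom_assoc]

theorem theta_assoc (X Y Z : Obj A) :
    Ψ.map (α_ X Y Z).hom ≫ theta hP Ψ Ψ' τ (X ⊗ Y ⊗ Z) =
      theta hP Ψ Ψ' τ ((X ⊗ Y) ⊗ Z) ≫ Ψ'.map (α_ X Y Z).hom := by
  rw [← cancel_epi (μ Ψ X Y ▷ Ψ.obj Z ≫ μ Ψ (X ⊗ Y) Z)]
  simp only [Category.assoc]
  rw [associativity_assoc, theta_tensor, reassoc_of% theta_tensor hP Ψ Ψ' τ (X ⊗ Y) Z]
  rw [← id_tensorHom, tensorHom_comp_tensorHom_assoc, Category.id_comp, theta_tensor]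
  rw [← tensorHom_id, tensorHom_comp_tensorHom_assoc, Category.id_comp, theta_tensor]
  have h1 : ∀ {a b b' : P} {c d : P} (p : a ⟶ c) (q : b ⟶ b') (r : b' ⟶ d), p ⊗ₘ q ≫ r = (p ⊗ₘ q) ≫ (c ◁ r) := by
    intros; rw [← id_tensorHom, tensorHom_comp_tensorHom, Category.comp_id]
  have h2 : ∀ {a a' b : P} {c d : P} (p : a ⟶ a') (r : a' ⟶ c) (q : b ⟶ d), p ≫ r ⊗ₘ q = (p ⊗ₘ q) ≫ (r ▷ d) := by
    intros; rw [← tensorHom_id, tensorHom_comp_tensorHom, Category.comp_id]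
  rw [h1, h2]
  simp only [Category.assoc]
  rw [associativity, associator_naturality_assoc]

theorem theta_lunit (X : Obj A) :
    Ψ.map (λ_ X).hom ≫ theta hP Ψ Ψ' τ X = theta hP Ψ Ψ' τ (𝟙_ _ ⊗ X) ≫ Ψ'.map (λ_ X).hom := by
  rw [← cancel_epi (ε Ψ ▷ Ψ.obj X ≫ μ Ψ (𝟙_ _) X)]
  simp only [Category.assoc]
  rw [reassoc_of% theta_tensor hP Ψ Ψ' τ (𝟙_ _) X, ← tensorHom_id, tensorHom_comp_tensorHom_assoc, theta_unit,
    Category.id_comp, tensorHom_id, MonoidalCategory.tensorHom_def', Category.assoc, ← left_unitality,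
    MonoidalCategory.leftUnitor_naturality, left_unitality Ψ X, Category.assoc, Category.assoc]

theorem theta_runit (X : Obj A) :
    Ψ.map (ρ_ X).hom ≫ theta hP Ψ Ψ' τ X = theta hP Ψ Ψ' τ (X ⊗ 𝟙_ _) ≫ Ψ'.map (ρ_ X).hom := by
  rw [← cancel_epi (Ψ.obj X ◁ ε Ψ ≫ μ Ψ X (𝟙_ _))]
  simp only [Category.assoc]
  rw [reassoc_of% theta_tensor hP Ψ Ψ' τ X (𝟙_ _), ← id_tensorHom, tensorHom_comp_tensorHom_assoc, theta_unit,
    Category.id_comp, id_tensorHom, MonoidalCategory.tensorHom_def, Category.assoc, ← right_unitality,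
    MonoidalCategory.rightUnitor_naturality, right_unitality Ψ X, Category.assoc, Category.assoc]

theorem theta_braid (X Y : Obj A) :
    Ψ.map (β_ X Y).hom ≫ theta hP Ψ Ψ' τ (Y ⊗ X) = theta hP Ψ Ψ' τ (X ⊗ Y) ≫ Ψ'.map (β_ X Y).hom := by
  rw [← cancel_epi (μ Ψ X Y), Functor.LaxBraided.braided_assoc, theta_tensor,
    reassoc_of% theta_tensor hP Ψ Ψ' τ X Y, Functor.LaxBraided.braided, BraidedCategory.braiding_naturality_assoc]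

variable {Ψ Ψ' τ}

theorem theta_natural (hτ : NatTrans.IsMonoidal τ) {X Y : Obj A} (f : X ⟶ Y) :
    Ψ.map f ≫ theta hP Ψ Ψ' τ Y = theta hP Ψ Ψ' τ X ≫ Ψ'.map f := by
  induction f using Quotient.inductionOn with | h f => ?_
  induction f with
  | id X =>
    show Ψ.map (𝟙 X) ≫ _ = _ ≫ Ψ'.map (𝟙 X)
    simp
  | comp f g hf hg =>
    show Ψ.map (mk f ≫ mk g) ≫ _ = _ ≫ Ψ'.map (mk f ≫ mk g)
    rw [Functor.map_comp, Functor.map_comp, Category.assoc, hg, reassoc_of% hf]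
  | symm f hf =>
    show Ψ.map (mkIso f).inv ≫ _ = _ ≫ Ψ'.map (mkIso f).inv
    rw [← cancel_epi (Ψ.map (mkIso f).hom), ← Ψ.map_comp_assoc, Iso.hom_inv_id, Ψ.map_id, Category.id_comp]
    rw [show Ψ.map (mkIso f).hom = Ψ.map (mk f) from rfl, reassoc_of% hf, ← Functor.map_comp,
      show mk f ≫ (mkIso f).inv = 𝟙 _ from (mkIso f).hom_inv_id, Functor.map_id, Category.comp_id]
  | whiskerLeft Z f hf =>
    show Ψ.map (Z ◁ mk f) ≫ theta hP Ψ Ψ' τ (Z ⊗ _) = theta hP Ψ Ψ' τ (Z ⊗ _) ≫ Ψ'.map (Z ◁ mk f)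
    rw [← id_tensorHom]
    exact theta_natural_tensor hP Ψ Ψ' τ _ _ (by simp) hf
  | whiskerRight f Z hf =>
    show Ψ.map (mk f ▷ Z) ≫ theta hP Ψ Ψ' τ (_ ⊗ Z) = theta hP Ψ Ψ' τ (_ ⊗ Z) ≫ Ψ'.map (mk f ▷ Z)
    rw [← tensorHom_id]
    exact theta_natural_tensor hP Ψ Ψ' τ _ _ hf (by simp)
  | tensor f g hf hg => exact theta_natural_tensor hP Ψ Ψ' τ (mk f) (mk g) hf hg
  | assoc X Y Z => exact theta_assoc hP Ψ Ψ' τ X Y Z
  | lunit X => exact theta_lunit hP Ψ Ψ' τ X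
  | runit X => exact theta_runit hP Ψ Ψ' τ X
  | braid X Y => exact theta_braid hP Ψ Ψ' τ X Y
  | ev X => exact theta_ev hP Ψ Ψ' τ X
  | ofMap f => exact τ.naturality f
  | ofμ a b =>
    have h : (μ Ψ ((ι A).obj a) ((ι A).obj b) ≫ Ψ.map (μ (ι A) a b)) ≫ τ.app (a ⊗ b) =
        (τ.app a ⊗ₘ τ.app b) ≫ μ Ψ' ((ι A).obj a) ((ι A).obj b) ≫ Ψ'.map (μ (ι A) a b) := hτ.tensor a b
    rw [Category.assoc] at h
    rw [← cancel_epi (μ Ψ (Obj.of a) (Obj.of b))]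
    refine h.trans ?_
    exact (reassoc_of% theta_tensor hP Ψ Ψ' τ (Obj.of a) (Obj.of b)) _ |>.symm
  | ofε =>
    have h : (ε Ψ ≫ Ψ.map (ε (ι A))) ≫ τ.app (𝟙_ A) = ε Ψ' ≫ Ψ'.map (ε (ι A)) := hτ.unit
    rw [Category.assoc] at h
    rw [← cancel_epi (ε Ψ)]
    refine h.trans ?_
    exact (reassoc_of% theta_unit hP Ψ Ψ' τ) _ |>.symm

/-- the extension as a natural transformation -/
noncomputable def extend (hτ : NatTrans.IsMonoidal τ) : Ψ ⟶ Ψ' where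
  app := theta hP Ψ Ψ' τ
  naturality _ _ f := theta_natural hP hτ f

theorem isMonoidal_extend (hτ : NatTrans.IsMonoidal τ) : NatTrans.IsMonoidal (extend hP hτ) where
  unit := theta_unit hP Ψ Ψ' τ
  tensor X Y := theta_tensor hP Ψ Ψ' τ X Y

include hP in
theorem monoidal_ext {θ θ' : Ψ ⟶ Ψ'} [NatTrans.IsMonoidal θ] [NatTrans.IsMonoidal θ']
    (h : Functor.whiskerLeft (ι A) θ = Functor.whiskerLeft (ι A) θ') : θ = θ' := by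
  ext X
  induction X with
  | of a => exact NatTrans.congr_app h a
  | unit =>
    rw [← cancel_epi (ε Ψ)]
    exact (NatTrans.IsMonoidal.unit (τ := θ)).trans (NatTrans.IsMonoidal.unit (τ := θ')).symm
  | tensor X Y hX hY =>
    rw [← cancel_epi (μ Ψ X Y)]
    refine (NatTrans.IsMonoidal.tensor (τ := θ) X Y).trans (Eq.trans ?_ (NatTrans.IsMonoidal.tensor (τ := θ') X Y).symm)
    rw [hX, hY]
  | inv X hX =>
    have hu : θ.app (𝟙_ (Obj A)) = θ'.app (𝟙_ (Obj A)) := by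
      rw [← cancel_epi (ε Ψ)]
      exact (NatTrans.IsMonoidal.unit (τ := θ)).trans (NatTrans.IsMonoidal.unit (τ := θ')).symm
    have key : θ.app (X ⊗ X.inv) = θ'.app (X ⊗ X.inv) := by
      have h1 := θ.naturality (mkIso (Hom.ev X)).hom
      have h2 := θ'.naturality (mkIso (Hom.ev X)).hom
      change Ψ.map _ ≫ θ.app (𝟙_ (Obj A)) = _ at h1
      change Ψ.map _ ≫ θ'.app (𝟙_ (Obj A)) = _ at h2
      rw [hu, h2] at h1
      exact ((cancel_mono _).1 h1).symm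
    have h3 := (NatTrans.IsMonoidal.tensor (τ := θ) X X.inv).symm.trans
      ((congrArg (μ Ψ X X.inv ≫ ·) key).trans (NatTrans.IsMonoidal.tensor (τ := θ') X X.inv))
    rw [cancel_mono, MonoidalCategory.tensorHom_def, MonoidalCategory.tensorHom_def, hX, cancel_epi] at h3
    haveI := hP (Ψ'.obj X)
    exact (tensorLeft (Ψ'.obj X)).map_injective h3

end Groth.PicFree
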